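import Mathlib
import Cfsg.Agent.H68.MeetBase
import Cfsg.Agent.SporadicA.PermTab

/-!
# Trivial intersections of Sylow 2-subgroups: certificates by permutation tables (helper265)

A 2-group is given by a polycyclic sequence of tables; an element is coded by a number `e`.
-/

set_option autoImplicit false

namespace Cfsg.Agent.H265.MeetT

open Subgroup Cfsg.Agent.SporadicA.PermTab Cfsg.Agent.H68.MeetB

section pc

variable {G : Type*} [Group G]

/-- the product of the elements of a list at the bits of `e`, the first one on the right -/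
def pr : List G → ℕ → G
  | [], _ => 1
  | a :: L, e => pr L (e / 2) * (if e % 2 = 1 then a else 1)

/-- the subgroup generated by a list -/
def cl (L : List G) : Subgroup G := closure {g | g ∈ L}

theorem pr_mem (L : List G) : ∀ e, pr L e ∈ cl L := by
  induction L with
  | nil => intro e; exact one_mem _
  | cons a L ih =>
    intro e
    have h1 : cl L ≤ cl (a :: L) := closure_mono fun g hg => List.mem_cons_of_mem a hg
    refine mul_mem (h1 (ih _)) ?_
    split_ifs
    · exact subset_closure List.mem_cons_self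
    · exact one_mem _

theorem pr_snoc (L : List G) (a : G) : ∀ e, pr (L ++ [a]) e = (if e / 2 ^ L.length % 2 = 1 then a else 1) * pr L e := by
  induction L with
  | nil => intro e; simp [pr]
  | cons b L ih =>
    intro e
    rw [List.cons_append, pr, ih, pr, List.length_cons, pow_succ', Nat.div_div_eq_div_mul, mul_assoc]

theorem pr_mod (L : List G) : ∀ e, pr L (e % 2 ^ L.length) = pr L e := by
  induction L with
  | nil => intro e; rfl
  | cons a L ih =>
    intro e
    rw [pr, pr, List.length_cons, pow_succ']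
    have h1 : e % (2 * 2 ^ L.length) % 2 = e % 2 := Nat.mod_mul_right_mod _ _ _
    have h2 : e % (2 * 2 ^ L.length) / 2 = e / 2 % 2 ^ L.length := Nat.mod_mul_right_div_self _ _ _
    rw [h1, h2, ih]

/-- polycyclic sequences with factors of order dividing 2 -/
inductive Pc : List G → Prop
  | nil : Pc []
  | snoc {L : List G} {a : G} : Pc L → a * a ∈ cl L → (∀ b ∈ L, a * b * a⁻¹ ∈ cl L) → Pc (L ++ [a])

theorem Pc.exists_pr {L : List G} (h : Pc L) : ∀ g ∈ cl L, ∃ e, e < 2 ^ L.length ∧ g = pr L e := by
  suffices H : ∀ g ∈ cl L, ∃ e, g = pr L e by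
    intro g hg
    obtain ⟨e, he⟩ := H g hg
    exact ⟨e % 2 ^ L.length, Nat.mod_lt _ (by positivity), by rw [pr_mod, he]⟩
  induction h with
  | nil =>
    intro g hg
    have h1 : cl ([] : List G) = ⊥ := by
      unfold cl
      rw [closure_eq_bot_iff]
      intro g hg
      exact absurd hg (by simp)
    rw [h1, mem_bot] at hg
    exact ⟨0, hg⟩
  | @snoc L a _ hsq hc ih =>
    have hcon : ∀ g ∈ cl L, a * g * a⁻¹ ∈ cl L := by
      intro g hg
      have h4 : (cl L).map (MulAut.conj a).toMonoidHom ≤ cl L := by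
        unfold cl
        rw [MonoidHom.map_closure, closure_le]
        rintro _ ⟨b, hb, rfl⟩
        exact hc b hb
      exact h4 (mem_map_of_mem _ hg)
    have hcon' : ∀ g ∈ cl L, a⁻¹ * g * a ∈ cl L := by
      intro g hg
      have h1 : a⁻¹ * g * a = (a * a)⁻¹ * (a * g * a⁻¹) * (a * a) := by group
      rw [h1]
      exact mul_mem (mul_mem (inv_mem hsq) (hcon g hg)) hsq
    let K : Subgroup G :=
      { carrier := {g | g ∈ cl L ∨ a⁻¹ * g ∈ cl L}
        mul_mem' := by
          rintro g k (hg | hg) (hk | hk)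
          · exact Or.inl (mul_mem hg hk)
          · right
            have h1 : a⁻¹ * (g * k) = (a⁻¹ * g * a) * (a⁻¹ * k) := by group
            rw [h1]
            exact mul_mem (hcon' g hg) hk
          · right
            have h1 : a⁻¹ * (g * k) = (a⁻¹ * g) * k := by group
            rw [h1]
            exact mul_mem hg hk
          · left
            have h1 : g * k = (a * (a⁻¹ * g) * a⁻¹) * (a * a) * (a⁻¹ * k) := by group
            rw [h1]
            exact mul_mem (mul_mem (hcon _ hg) hsq) hk
        one_mem' := Or.inl (one_mem _)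
        inv_mem' := by
          rintro g (hg | hg)
          · exact Or.inl (inv_mem hg)
          · right
            have h1 : a⁻¹ * g⁻¹ = a⁻¹ * (a⁻¹ * g)⁻¹ * a * (a * a)⁻¹ := by group
            rw [h1]
            exact mul_mem (hcon' _ (inv_mem hg)) (inv_mem hsq) }
    have hK : cl (L ++ [a]) ≤ K := by
      unfold cl
      rw [closure_le]
      intro g hg
      rcases List.mem_append.1 (show g ∈ L ++ [a] from hg) with h1 | h1
      · exact Or.inl (subset_closure h1)
      · rw [List.mem_singleton] at h1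
        right
        rw [h1, inv_mul_cancel]
        exact one_mem _
    intro g hg
    rcases hK hg with h1 | h1
    · obtain ⟨e, he⟩ := ih g h1
      refine ⟨e % 2 ^ L.length, ?_⟩
      rw [pr_snoc, pr_mod, ← he, Nat.div_eq_of_lt (Nat.mod_lt _ (by positivity))]
      simp
    · obtain ⟨e, he⟩ := ih _ h1
      refine ⟨e % 2 ^ L.length + 2 ^ L.length, ?_⟩
      rw [pr_snoc, Nat.add_div_right _ (by positivity), Nat.div_eq_of_lt (Nat.mod_lt _ (by positivity))]
      have h2 : pr L (e % 2 ^ L.length + 2 ^ L.length) = pr L e := by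
        rw [← pr_mod, Nat.add_mod_right, Nat.mod_mod, pr_mod]
      rw [h2, ← he]
      simp

theorem Pc.injOn {L : List G} (h : Pc L) (h1 : ∀ e, e < 2 ^ L.length → pr L e = 1 → e = 0) :
    ∀ e e', e < 2 ^ L.length → e' < 2 ^ L.length → pr L e = pr L e' → e = e' := by
  induction h with
  | nil =>
    intro e e' he he' _
    rw [List.length_nil, pow_zero] at he he'
    omega
  | @snoc L a hL hsq hc ih =>
    have hlen : (L ++ [a]).length = L.length + 1 := by simp
    rw [hlen] at h1 ⊢
    have hpow : 2 ^ (L.length + 1) = 2 * 2 ^ L.length := by rw [pow_succ']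
    have hlow : ∀ e, e < 2 ^ L.length → pr (L ++ [a]) e = pr L e := by
      intro e he
      rw [pr_snoc, Nat.div_eq_of_lt he]
      simp
    have hhigh : ∀ e, e < 2 ^ L.length → pr (L ++ [a]) (e + 2 ^ L.length) = a * pr L e := by
      intro e he
      rw [pr_snoc, Nat.add_div_right _ (by positivity), Nat.div_eq_of_lt he]
      have h2 : pr L (e + 2 ^ L.length) = pr L e := by
        rw [← pr_mod, Nat.add_mod_right, pr_mod]
      rw [h2]
      simp
    have ih' := ih fun e he h2 => h1 e (by omega) (by rw [hlow e he, h2])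
    have hna : a ∉ cl L := by
      intro ha
      obtain ⟨e, he, h2⟩ := hL.exists_pr a⁻¹ (inv_mem ha)
      have h3 := h1 (e + 2 ^ L.length) (by omega) (by rw [hhigh e he, ← h2, mul_inv_cancel])
      have : 0 < 2 ^ L.length := by positivity
      omega
    intro e e' he he' hee
    rcases lt_or_ge e (2 ^ L.length) with h2 | h2 <;> rcases lt_or_ge e' (2 ^ L.length) with h3 | h3
    · rw [hlow e h2, hlow e' h3] at hee
      exact ih' e e' h2 h3 hee
    · obtain ⟨k, rfl⟩ : ∃ k, e' = k + 2 ^ L.length := ⟨e' - 2 ^ L.length, by omega⟩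
      rw [hlow e h2, hhigh k (by omega)] at hee
      exfalso
      apply hna
      have h4 : a = pr L e * (pr L k)⁻¹ := by rw [hee]; group
      rw [h4]
      exact mul_mem (pr_mem L e) (inv_mem (pr_mem L k))
    · obtain ⟨k, rfl⟩ : ∃ k, e = k + 2 ^ L.length := ⟨e - 2 ^ L.length, by omega⟩
      rw [hlow e' h3, hhigh k (by omega)] at hee
      exfalso
      apply hna
      have h4 : a = pr L e' * (pr L k)⁻¹ := by rw [← hee]; group
      rw [h4]
      exact mul_mem (pr_mem L e') (inv_mem (pr_mem L k))
    · obtain ⟨k, rfl⟩ : ∃ k, e = k + 2 ^ L.length := ⟨e - 2 ^ L.length, by omega⟩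
      obtain ⟨k', rfl⟩ : ∃ k, e' = k + 2 ^ L.length := ⟨e' - 2 ^ L.length, by omega⟩
      rw [hhigh k (by omega), hhigh k' (by omega)] at hee
      have := ih' k k' (by omega) (by omega) (mul_left_cancel hee)
      omega

theorem Pc.card {L : List G} (h : Pc L) (h1 : ∀ e, e < 2 ^ L.length → pr L e = 1 → e = 0) :
    Nat.card (cl L) = 2 ^ L.length := by
  let φ : Fin (2 ^ L.length) → cl L := fun e => ⟨pr L e, pr_mem L e⟩
  have hφ : Function.Bijective φ := by
    constructor
    · intro e e' hee
      exact Fin.ext (h.injOn h1 e e' e.2 e'.2 (congrArg Subtype.val hee))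
    · rintro ⟨g, hg⟩
      obtain ⟨e, he, h2⟩ := h.exists_pr g hg
      exact ⟨⟨e, he⟩, Subtype.ext h2.symm⟩
  rw [← Nat.card_congr (Equiv.ofBijective φ hφ), Nat.card_eq_fintype_card, Fintype.card_fin]

/-- a polycyclic 2-group of odd index meeting its conjugate by `x` trivially -/
theorem Pc.meetIn [Finite G] {L : List G} (h : Pc L) {x : G}
    (h1 : ∀ e e', e < 2 ^ L.length → e' < 2 ^ L.length → x * pr L e = pr L e' * x → e = 0)
    (hcard : ¬ 2 ^ (L.length + 1) ∣ Nat.card G) : MeetIn 2 G := by
  have : Fact (Nat.Prime 2) := ⟨Nat.prime_two⟩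
  have hpos : 0 < 2 ^ L.length := by positivity
  have h10 : pr L 0 = 1 := by
    have h2 : ∀ L : List G, pr L 0 = 1 := by
      intro L
      induction L with
      | nil => rfl
      | cons a L ih => rw [pr, Nat.zero_div, ih]; simp
    exact h2 L
  have hc := h.card fun e he h2 => h1 e 0 he hpos (by rw [h2, h10, mul_one, one_mul])
  refine MeetIn.of_one (cl L) (IsPGroup.of_card hc) ?_ ⟨x, ?_⟩
  · rintro ⟨q, hq⟩
    apply hcard
    rw [← (cl L).card_mul_index, hc, hq]
    exact ⟨q, by ring⟩
  · intro y hy hxy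
    obtain ⟨e, he, h2⟩ := h.exists_pr y hy
    obtain ⟨e', he', h3⟩ := h.exists_pr _ hxy
    have h4 := h1 e e' he he' (by rw [← h2, ← h3]; group)
    rw [h2, h4, h10]

end pc

/-! ### Tables -/

/-- the image of `i` under the product coded by `e` -/
def evp (T : List ℕ) : ℕ → ℕ → ℕ :=
  List.rec (fun _ i => i) (fun A _ ih e i => ih (Nat.div e 2) (cond (Nat.beq (Nat.mod e 2) 1) (lk A i) i)) T

theorem evp_nil (e i : ℕ) : evp [] e i = i := rfl

theorem evp_cons (A : ℕ) (T : List ℕ) (e i : ℕ) :
    evp (A :: T) e i = evp T (e / 2) (cond (Nat.beq (e % 2) 1) (lk A i) i) := rfl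

/-- `a a = e`, as tables -/
def chkSq (N : ℕ) (T : List ℕ) (A e : ℕ) : Bool := allB (fun i => Nat.beq (lk A (lk A i)) (evp T e i)) N

/-- `a b = e a`, as tables -/
def chkCj (N : ℕ) (T : List ℕ) (A B e : ℕ) : Bool :=
  allB (fun i => Nat.beq (lk A (lk B i)) (evp T e (lk A i))) N

/-- `a b = e a` for all `b` of a list, as tables -/
def chkCjs (N : ℕ) (T : List ℕ) (A : ℕ) : List ℕ → List ℕ → Bool
  | [], _ => true
  | _ :: _, [] => false
  | B :: R, e :: c => band (chkCj N T A B e) (chkCjs N T A R c)

/-- the certificate of a polycyclic sequence -/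
def chkPC (N : ℕ) : List ℕ → List ℕ → List (List ℕ) → Bool
  | _, [], _ => true
  | _, _ :: _, [] => false
  | _, _ :: _, [] :: _ => false
  | T, A :: R, (e :: c) :: cs => band (chkSq N T A e) (band (chkCjs N T A T c) (chkPC N (T ++ [A]) R cs))

/-- hash of the images of three points -/
def hsh (n md p1 p2 p3 : ℕ) (f : ℕ → ℕ) : ℕ :=
  Nat.mod (Nat.add (f p1) (Nat.mul n (Nat.add (f p2) (Nat.mul n (f p3))))) md

def bit (M v : ℕ) : Bool := Nat.beq (Nat.land (Nat.shiftRight M v) 1) 1

/-- a test: three points, a modulus, a mask -/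
structure Test where
  p1 : ℕ
  p2 : ℕ
  p3 : ℕ
  md : ℕ
  M : ℕ

/-- the hashes of `E x` are in the mask -/
def chkV (N : ℕ) (T : List ℕ) (X m : ℕ) (t : Test) : Bool :=
  allB (fun e => bit t.M (hsh N t.md t.p1 t.p2 t.p3 (fun q => evp T e (lk X q)))) m

/-- some hash of `x e` is not in the mask -/
def anyT (N : ℕ) (T : List ℕ) (X e : ℕ) (ts : List Test) : Bool :=
  List.rec false (fun t _ ih => cond (bit t.M (hsh N t.md t.p1 t.p2 t.p3 (fun q => lk X (evp T e q)))) ih true) ts

/-- for `e ≠ 0`, some hash of `x e` is not in the mask -/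
def chkU (N : ℕ) (T : List ℕ) (X m : ℕ) (ts : List Test) : Bool :=
  allB (fun e => cond (Nat.beq e 0) true (anyT N T X e ts)) m

def chkP (N : ℕ) (t : Test) : Bool := band (Nat.blt t.p1 N) (band (Nat.blt t.p2 N) (Nat.blt t.p3 N))

section main

variable {G : Type*} [Group G] {N : ℕ} {f : G → ℕ → ℕ}

theorem f_pr (hone : ∀ i, i < N → f 1 i = i) (hmul : ∀ g h i, i < N → f (g * h) i = f g (f h i))
    (hlt : ∀ g i, i < N → f g i < N) {F : ℕ → G} :
    ∀ T : List ℕ, (∀ A ∈ T, ∀ i, i < N → f (F A) i = lk A i) → ∀ e i, i < N → f (pr (T.map F) e) i = evp T e i := by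
  intro T
  induction T with
  | nil => intro _ e i hi; exact hone i hi
  | cons A T ih =>
    intro hT e i hi
    rw [List.map_cons, pr, hmul _ _ i hi, evp_cons, ih (fun B hB => hT B (List.mem_cons_of_mem _ hB)) _ _ (hlt _ _ hi)]
    congr 1
    by_cases h : e % 2 = 1
    · rw [if_pos h, hT A List.mem_cons_self i hi]
      have : Nat.beq (e % 2) 1 = true := by rw [h]; rfl
      rw [this]
      rfl
    · rw [if_neg h, hone i hi]
      have : Nat.beq (e % 2) 1 = false := by
        have h0 : e % 2 = 0 := by omega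
        rw [h0]; rfl
      rw [this]
      rfl

theorem chkCjs_spec {T : List ℕ} {A : ℕ} : ∀ (R c : List ℕ), chkCjs N T A R c = true →
    ∀ B ∈ R, ∃ e, chkCj N T A B e = true := by
  intro R
  induction R with
  | nil => intro c _ B hB; exact absurd hB (by simp)
  | cons B R ih =>
    intro c hc B' hB'
    match c with
    | [] => exact absurd hc (by simp [chkCjs])
    | e :: c =>
      rw [chkCjs, band_eq_true] at hc
      rcases List.mem_cons.1 hB' with rfl | h
      · exact ⟨e, hc.1⟩
      · exact ih c hc.2 B' h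

theorem pc_of_chk (hone : ∀ i, i < N → f 1 i = i) (hmul : ∀ g h i, i < N → f (g * h) i = f g (f h i))
    (hlt : ∀ g i, i < N → f g i < N) (hinj : ∀ g h, (∀ i, i < N → f g i = f h i) → g = h) {F : ℕ → G} :
    ∀ (R T : List ℕ) (cs : List (List ℕ)), (∀ A ∈ T ++ R, ∀ i, i < N → f (F A) i = lk A i) → Pc (T.map F) →
      chkPC N T R cs = true → Pc ((T ++ R).map F) := by
  intro R
  induction R with
  | nil => intro T cs _ h _; rwa [List.append_nil]
  | cons A R ih =>
    intro T cs hT h hc
    match cs with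
    | [] => exact absurd hc (by simp [chkPC])
    | [] :: cs => exact absurd hc (by simp [chkPC])
    | (e :: c) :: cs =>
      rw [chkPC, band_eq_true, band_eq_true] at hc
      obtain ⟨h1, h2, h3⟩ := hc
      have hTT : ∀ B ∈ T, ∀ i, i < N → f (F B) i = lk B i := fun B hB => hT B (List.mem_append_left _ hB)
      have hA : ∀ i, i < N → f (F A) i = lk A i := hT A (List.mem_append_right _ List.mem_cons_self)
      have h4 := ih (T ++ [A]) cs (by
        intro B hB
        apply hT
        rw [List.append_assoc] at hB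
        exact hB) (by
        rw [List.map_append, List.map_cons, List.map_nil]
        refine Pc.snoc h ?_ ?_
        · have h5 : F A * F A = pr (T.map F) e := by
            apply hinj
            intro i hi
            have h6 := (allB_iff _ _).1 h1 i hi
            rw [hmul _ _ i hi, f_pr hone hmul hlt T hTT e i hi, hA i hi, hA _ (by rw [← hA i hi]; exact hlt _ _ hi)]
            exact Nat.eq_of_beq_eq_true h6
          rw [h5]
          exact pr_mem _ _
        · intro b hb
          obtain ⟨B, hB, rfl⟩ := List.mem_map.1 hb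
          obtain ⟨e', he'⟩ := chkCjs_spec T c h2 B hB
          have h5 : F A * F B = pr (T.map F) e' * F A := by
            apply hinj
            intro i hi
            have h6 := (allB_iff _ _).1 he' i hi
            rw [hmul _ _ i hi, hmul _ _ i hi, hTT B hB i hi, hA i hi,
              f_pr hone hmul hlt T hTT e' _ (by rw [← hA i hi]; exact hlt _ _ hi),
              hA _ (by rw [← hTT B hB i hi]; exact hlt _ _ hi)]
            exact Nat.eq_of_beq_eq_true h6
          rw [h5, mul_inv_cancel_right]
          exact pr_mem _ _) h3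
      rw [List.append_assoc] at h4
      exact h4

theorem anyT_spec {T : List ℕ} {X e : ℕ} : ∀ ts : List Test, anyT N T X e ts = true →
    ∃ t ∈ ts, bit t.M (hsh N t.md t.p1 t.p2 t.p3 (fun q => lk X (evp T e q))) = false := by
  intro ts
  induction ts with
  | nil => intro h; exact absurd h (by simp [anyT])
  | cons t ts ih =>
    intro h
    by_cases hb : bit t.M (hsh N t.md t.p1 t.p2 t.p3 (fun q => lk X (evp T e q))) = true
    · have h1 : anyT N T X e ts = true := by
        have h2 : anyT N T X e (t :: ts) =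
          cond (bit t.M (hsh N t.md t.p1 t.p2 t.p3 (fun q => lk X (evp T e q)))) (anyT N T X e ts) true := rfl
        rw [h2, hb] at h
        exact h
      obtain ⟨t', ht', h3⟩ := ih h1
      exact ⟨t', List.mem_cons_of_mem _ ht', h3⟩
    · exact ⟨t, List.mem_cons_self, by simpa using hb⟩

/-- **The criterion.** -/
theorem meetIn_of_tab [Finite G] (hone : ∀ i, i < N → f 1 i = i)
    (hmul : ∀ g h i, i < N → f (g * h) i = f g (f h i))
    (hlt : ∀ g i, i < N → f g i < N) (hinj : ∀ g h, (∀ i, i < N → f g i = f h i) → g = h)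
    (T : List ℕ) (hT : ∀ A ∈ T, ∃ g : G, ∀ i, i < N → f g i = lk A i) (X : ℕ)
    (hX : ∃ g : G, ∀ i, i < N → f g i = lk X i) (m : ℕ) (hm : Nat.beq m (2 ^ T.length) = true)
    (cs : List (List ℕ)) (ts : List Test)
    (hpc : chkPC N [] T cs = true) (hp : ts.all (chkP N) = true) (hV : ts.all (chkV N T X m) = true)
    (hU : chkU N T X m ts = true) (hcard : ¬ 2 ^ (T.length + 1) ∣ Nat.card G) : MeetIn 2 G := by
  classical
  let F : ℕ → G := fun A => if h : ∃ g : G, ∀ i, i < N → f g i = lk A i then h.choose else 1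
  have hF : ∀ A ∈ T, ∀ i, i < N → f (F A) i = lk A i := by
    intro A hA
    have h := hT A hA
    simp only [F]
    rw [dif_pos h]
    exact h.choose_spec
  obtain ⟨x, hx⟩ := hX
  have hm' := Nat.eq_of_beq_eq_true hm
  have h1 : Pc (([] ++ T).map F) := pc_of_chk hone hmul hlt hinj T [] cs (by simpa using hF) Pc.nil hpc
  rw [List.nil_append] at h1
  refine h1.meetIn (x := x) ?_ (by rw [List.length_map]; exact hcard)
  rw [List.length_map, ← hm']
  intro e e' he he' h
  by_contra he0
  have h2 := (allB_iff _ _).1 hU e he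
  have h3 : Nat.beq e 0 = false := by
    rw [Bool.eq_false_iff]
    intro h4
    exact he0 (Nat.eq_of_beq_eq_true h4)
  rw [h3] at h2
  obtain ⟨t, ht, hb⟩ := anyT_spec ts h2
  have h4 := (allB_iff _ _).1 (List.all_eq_true.1 hV t ht) e' he'
  have h5 := List.all_eq_true.1 hp t ht
  unfold chkP at h5
  rw [band_eq_true, band_eq_true, Nat.blt_eq, Nat.blt_eq, Nat.blt_eq] at h5
  have h6 : ∀ q, q < N → lk X (evp T e q) = evp T e' (lk X q) := by
    intro q hq
    have h7 : f (x * pr (T.map F) e) q = f (pr (T.map F) e' * x) q := by rw [h]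
    rw [hmul _ _ q hq, hmul _ _ q hq, f_pr hone hmul hlt T hF e q hq, hx q hq,
      hx _ (by rw [← f_pr hone hmul hlt T hF e q hq]; exact hlt _ _ hq),
      f_pr hone hmul hlt T hF e' _ (by rw [← hx q hq]; exact hlt _ _ hq)] at h7
    exact h7
  have h8 : hsh N t.md t.p1 t.p2 t.p3 (fun q => lk X (evp T e q)) =
      hsh N t.md t.p1 t.p2 t.p3 (fun q => evp T e' (lk X q)) := by
    unfold hsh
    simp only [h6 t.p1 h5.1, h6 t.p2 h5.2.1, h6 t.p3 h5.2.2]
  rw [h8, h4] at hb
  exact absurd hb (by simp)

end main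

open Equiv in
/-- the criterion for permutation groups -/
theorem meetIn_perm {N : ℕ} {Q : Subgroup (Perm (Fin N))} (T : List ℕ) (hT : ∀ A ∈ T, InG Q A) (X : ℕ)
    (hX : InG Q X) (m : ℕ) (hm : Nat.beq m (2 ^ T.length) = true)
    (cs : List (List ℕ)) (ts : List Test)
    (hpc : chkPC N [] T cs = true) (hp : ts.all (chkP N) = true) (hV : ts.all (chkV N T X m) = true)
    (hU : chkU N T X m ts = true) (hcard : ¬ 2 ^ (T.length + 1) ∣ Nat.card Q) : MeetIn 2 Q := by
  let f : Q → ℕ → ℕ := fun g i => if h : i < N then ((g : Perm (Fin N)) ⟨i, h⟩ : ℕ) else i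
  have hf : ∀ (g : Q) (i : ℕ) (h : i < N), f g i = ((g : Perm (Fin N)) ⟨i, h⟩ : ℕ) := by
    intro g i h
    simp only [f]
    rw [dif_pos h]
  have hin : ∀ A, InG Q A → ∃ g : Q, ∀ i, i < N → f g i = lk A i := by
    rintro A ⟨g, hg, h⟩
    refine ⟨⟨g, hg⟩, fun i hi => ?_⟩
    rw [hf _ _ hi]
    exact h ⟨i, hi⟩
  refine meetIn_of_tab (f := f) (N := N) ?_ ?_ ?_ ?_ T (fun A hA => hin A (hT A hA)) X (hin X hX) m hm cs ts hpc hp hV
    hU hcard
  · intro i hi
    rw [hf _ _ hi]
    rfl
  · intro g h i hi
    rw [hf _ _ hi, hf h _ hi, hf g _ (Fin.is_lt _)]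
    rfl
  · intro g i hi
    rw [hf _ _ hi]
    exact Fin.is_lt _
  · intro g h hgh
    apply Subtype.ext
    ext i
    have := hgh i i.2
    rw [hf _ _ i.2, hf _ _ i.2] at this
    exact this

/-! ### Straight-line programs -/

/-- every entry of the program is a word in the tables known before -/
def chkSLP (n : ℕ) : List ℕ → List (ℕ × List ℕ) → Bool
  | _, [] => true
  | K, (S, L) :: R => band (L.all fun P => K.any fun P' => Nat.beq P P') (band (chkWord n S L) (chkSLP n (S :: K) R))

theorem inG_slp {n : ℕ} {G : Subgroup (Equiv.Perm (Fin n))} : ∀ (R : List (ℕ × List ℕ)) (K : List ℕ),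
    (∀ P ∈ K, InG G P) → chkSLP n K R = true → ∀ A, A ∈ K ∨ A ∈ R.map Prod.fst → InG G A := by
  intro R
  induction R with
  | nil =>
    intro K hK _ A hA
    rcases hA with h | h
    · exact hK A h
    · exact absurd h (by simp)
  | cons SL R ih =>
    obtain ⟨S, L⟩ := SL
    intro K hK h A hA
    rw [chkSLP, band_eq_true, band_eq_true] at h
    obtain ⟨h1, h2, h3⟩ := h
    have hS : InG G S := by
      refine InG.word (fun P hP => ?_) h2
      obtain ⟨P', hP', h4⟩ := List.any_eq_true.1 (List.all_eq_true.1 h1 P hP)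
      rw [Nat.eq_of_beq_eq_true h4]
      exact hK P' hP'
    refine ih (S :: K) ?_ h3 A ?_
    · intro P hP
      rcases List.mem_cons.1 hP with rfl | h4
      · exact hS
      · exact hK P h4
    · rcases hA with h4 | h4
      · exact Or.inl (List.mem_cons_of_mem _ h4)
      · rw [List.map_cons] at h4
        rcases List.mem_cons.1 h4 with rfl | h5
        · exact Or.inl List.mem_cons_self
        · exact Or.inr h5

/-- all tables of `T` are known -/
def chkSub (T K : List ℕ) (R : List (ℕ × List ℕ)) : Bool :=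
  T.all fun A => (K.any fun P => Nat.beq A P) || (R.any fun P => Nat.beq A P.1)

theorem inG_sub {n : ℕ} {G : Subgroup (Equiv.Perm (Fin n))} {R : List (ℕ × List ℕ)} {K T : List ℕ}
    (hK : ∀ P ∈ K, InG G P) (h : chkSLP n K R = true) (hT : chkSub T K R = true) : ∀ A ∈ T, InG G A := by
  intro A hA
  have h1 := List.all_eq_true.1 hT A hA
  rw [Bool.or_eq_true] at h1
  rcases h1 with h1 | h1
  · obtain ⟨P, hP, h2⟩ := List.any_eq_true.1 h1
    rw [Nat.eq_of_beq_eq_true h2]
    exact hK P hP
  · obtain ⟨P, hP, h2⟩ := List.any_eq_true.1 h1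
    rw [Nat.eq_of_beq_eq_true h2]
    exact inG_slp R K hK h _ (Or.inr (List.mem_map.2 ⟨P, hP, rfl⟩))

end Cfsg.Agent.H265.MeetT
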